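import Groth.Agent.FittX.Free
import Groth.Agent.ModPairLib.Basic
import Groth.Prelude.Def_Mor2
import Mathlib.AlgebraicGeometry.Morphisms.FlatRank
import Mathlib.RingTheory.LocalProperties.Projective
import Mathlib.RingTheory.LocalProperties.FinitePresentation
import Mathlib.RingTheory.Flat.EquationalCriterion
import Mathlib.RingTheory.Flat.Localization

/-!
# Fitting ideals of a finite morphism
-/

set_option backward.isDefEq.respectTransparency false
set_option backward.isDefEq.respectTransparency.types false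
set_option linter.style.haveILetI false

universe u

open CategoryTheory CategoryTheory.Limits AlgebraicGeometry TopologicalSpace Opposite

namespace Groth.Agent.FittX

variable {X Y X' Y' : Scheme.{u}}

/-- The Fitting ideal of the sections over the preimage of an open. -/
noncomputable def finIdeal (f : X ⟶ Y) (r : ℕ) (U : Y.Opens) : Ideal Γ(Y, U) :=
  letI := (f.app U).hom.toAlgebra
  Fitt.ideal Γ(Y, U) Γ(X, f ⁻¹ᵁ U) r

/-- The Fitting ideal sheaf of a finite morphism. -/
noncomputable def finSheaf (f : X ⟶ Y) (r : ℕ) : Y.IdealSheafData :=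
  Scheme.IdealSheafData.ofIdeals fun U : Y.affineOpens => finIdeal f r U.1

theorem finIdeal_baseChange {f : X ⟶ Y} [IsFinite f] {f' : X' ⟶ Y'} {g' : X' ⟶ X} {g : Y' ⟶ Y}
    (H : IsPullback g' f' f g) {U : Y.Opens} {W : Y'.Opens} (hU : IsAffineOpen U) (hW : IsAffineOpen W)
    (e : W ≤ g ⁻¹ᵁ U) (r : ℕ) :
    finIdeal f' r W = (finIdeal f r U).map (g.appLE U W e).hom := by
  have e' : f' ⁻¹ᵁ W ≤ g' ⁻¹ᵁ f ⁻¹ᵁ U := fun z hz => by
    show f (g' z) ∈ U
    rw [← Scheme.Hom.comp_apply, H.w, Scheme.Hom.comp_apply]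
    exact e hz
  have hiso := isIso_pushoutSection_of_isAffineOpen H (US := U) (UT := W) (UX := f ⁻¹ᵁ U) (UY := f' ⁻¹ᵁ W)
    e le_rfl (le_antisymm (le_inf e' le_rfl) inf_le_right) hU hW (hU.preimage f)
  rw [isIso_pushoutSection_iff] at hiso
  have hpo : IsPushout (f.app U) (g.appLE U W e) (g'.appLE (f ⁻¹ᵁ U) (f' ⁻¹ᵁ W) e') (f'.app W) := by
    simp only [Scheme.Hom.app_eq_appLE]
    exact hiso
  algebraize [(f.app U).hom, (g.appLE U W e).hom, (g'.appLE (f ⁻¹ᵁ U) (f' ⁻¹ᵁ W) e').hom, (f'.app W).hom,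
    (f.app U ≫ g'.appLE (f ⁻¹ᵁ U) (f' ⁻¹ᵁ W) e').hom]
  haveI : IsScalarTower Γ(Y, U) Γ(Y', W) Γ(X', f' ⁻¹ᵁ W) := .of_algebraMap_eq fun a => congr($(hpo.w).hom a)
  haveI : IsScalarTower Γ(Y, U) Γ(X, f ⁻¹ᵁ U) Γ(X', f' ⁻¹ᵁ W) := .of_algebraMap_eq fun a => rfl
  haveI : Algebra.IsPushout Γ(Y, U) Γ(Y', W) Γ(X, f ⁻¹ᵁ U) Γ(X', f' ⁻¹ᵁ W) :=
    CommRingCat.isPushout_iff_isPushout.mp hpo.flip
  haveI : Module.Finite Γ(Y, U) Γ(X, f ⁻¹ᵁ U) := IsFinite.finite_app f U hU
  exact ideal_baseChange (Algebra.IsPushout.out (R := Γ(Y, U)) (S := Γ(Y', W)) (R' := Γ(X, f ⁻¹ᵁ U))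
    (S' := Γ(X', f' ⁻¹ᵁ W))) r

theorem finSheaf_ideal (f : X ⟶ Y) [IsFinite f] (r : ℕ) (U : Y.affineOpens) :
    (finSheaf f r).ideal U = finIdeal f r U.1 := by
  let I : Y.IdealSheafData :=
    { ideal := fun U => finIdeal f r U.1
      map_ideal_basicOpen := fun U a => by
        have h := finIdeal_baseChange (f := f) (f' := f) (g' := 𝟙 X) (g := 𝟙 Y)
          (IsPullback.of_horiz_isIso ⟨by simp⟩) U.2 (U.2.basicOpen a) (Y.basicOpen_le a) r
        simpa [Scheme.Hom.appLE, Scheme.affineBasicOpen] using h.symm }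
  rw [show finSheaf f r = I from Scheme.IdealSheafData.ofIdeals_ideal I]

theorem eq_of_affine_cover {I J : X.IdealSheafData}
    (h : ∀ x : X, ∃ U : X.affineOpens, x ∈ U.1 ∧ I.ideal U = J.ideal U) : I = J := by
  choose U hx hU using h
  exact Scheme.IdealSheafData.ext_of_iSup_eq_top U (top_le_iff.1 fun x _ => Opens.mem_iSup.2 ⟨x, hx x⟩) hU

/-- The Fitting ideals of a finite morphism commute with base change. -/
theorem finSheaf_comap {f : X ⟶ Y} [IsFinite f] {f' : X' ⟶ Y'} [IsFinite f'] {g' : X' ⟶ X} {g : Y' ⟶ Y}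
    (H : IsPullback g' f' f g) (r : ℕ) : (finSheaf f r).comap g = finSheaf f' r := by
  refine eq_of_affine_cover fun y => ?_
  obtain ⟨_, ⟨V, hV, rfl⟩, hyV, -⟩ :=
    Y.isBasis_affineOpens.exists_subset_of_mem_open (Set.mem_univ (g y)) isOpen_univ
  obtain ⟨_, ⟨W, hW, rfl⟩, hyW, hWV⟩ :=
    Y'.isBasis_affineOpens.exists_subset_of_mem_open (show y ∈ g ⁻¹ᵁ V from hyV) (g ⁻¹ᵁ V).isOpen
  refine ⟨⟨W, hW⟩, hyW, ?_⟩
  rw [ModPairLib.ideal_comap _ g ⟨V, hV⟩ ⟨W, hW⟩ hWV, finSheaf_ideal, finSheaf_ideal]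
  exact (finIdeal_baseChange H hV hW hWV r).symm

theorem finSheaf_mono (f : X ⟶ Y) [IsFinite f] {k l : ℕ} (h : k ≤ l) : finSheaf f k ≤ finSheaf f l := by
  intro U
  rw [finSheaf_ideal, finSheaf_ideal]
  letI := (f.app U.1).hom.toAlgebra
  haveI : Module.Finite Γ(Y, U.1) Γ(X, f ⁻¹ᵁ U.1) := IsFinite.finite_app f U.1 U.2
  exact ideal_mono h

/-- The zeroth Fitting ideal vanishes for a morphism with a section. -/
theorem finSheaf_zero_of_section (f : X ⟶ Y) [IsFinite f] (σ : Y ⟶ X) (hσ : σ ≫ f = 𝟙 Y) :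
    finSheaf f 0 = ⊥ := by
  refine eq_of_affine_cover fun y => ?_
  obtain ⟨_, ⟨U, hU, rfl⟩, hy, -⟩ :=
    Y.isBasis_affineOpens.exists_subset_of_mem_open (Set.mem_univ y) isOpen_univ
  refine ⟨⟨U, hU⟩, hy, ?_⟩
  rw [finSheaf_ideal, Scheme.IdealSheafData.ideal_bot]
  refine eq_bot_iff.2 fun a ha => ?_
  letI := (f.app U).hom.toAlgebra
  haveI : Module.Finite Γ(Y, U) Γ(X, f ⁻¹ᵁ U) := IsFinite.finite_app f U hU
  have h := Module.mem_annihilator.1 (ideal_annihilator ha) 1
  rw [Algebra.smul_def, mul_one] at h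
  have hle : U ≤ σ ⁻¹ᵁ f ⁻¹ᵁ U := by rw [← Scheme.Hom.comp_preimage, hσ]; exact le_rfl
  have h2 := congrArg (σ.appLE (f ⁻¹ᵁ U) U hle).hom h
  rw [map_zero] at h2
  show a = 0
  rw [← h2]
  show a = (f.app U ≫ σ.appLE (f ⁻¹ᵁ U) U hle) a
  rw [Scheme.Hom.app_eq_appLE, Scheme.Hom.appLE_comp_appLE]
  simp only [hσ]
  simp [Scheme.Hom.appLE]
  exact (congr($(Y.presheaf.map_id _) a)).symm

theorem exists_finSheaf_not_mem_support (f : X ⟶ Y) [IsFinite f] (y : Y) :
    ∃ r, y ∉ (finSheaf f r).support := by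
  obtain ⟨_, ⟨U, hU, rfl⟩, hy, -⟩ :=
    Y.isBasis_affineOpens.exists_subset_of_mem_open (Set.mem_univ y) isOpen_univ
  letI := (f.app U).hom.toAlgebra
  haveI : Module.Finite Γ(Y, U) Γ(X, f ⁻¹ᵁ U) := IsFinite.finite_app f U hU
  obtain ⟨n, g, hg⟩ := exists_gen Γ(Y, U) Γ(X, f ⁻¹ᵁ U)
  refine ⟨n, fun h => ?_⟩
  rw [Scheme.IdealSheafData.mem_support_iff_of_mem (U := ⟨U, hU⟩) hy, finSheaf_ideal,
    Scheme.mem_zeroLocus_iff] at h
  exact h 1 (by rw [finIdeal, ideal_eq_top_of_gen g hg le_rfl]; trivial) (by rw [Scheme.basicOpen_of_isUnit _ isUnit_one]; exact hy)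

theorem projective_of_free_away {R : Type u} [CommRing R] {M : Type u} [AddCommGroup M] [Module R M] {r : ℕ}
    [Module.Finite R M]
    (h : ∀ (p : Ideal R) [p.IsPrime], ∃ a : R, a ∉ p ∧
      Module.Free (Localization.Away a) (LocalizedModule (Submonoid.powers a) M) ∧
        Module.finrank (Localization.Away a) (LocalizedModule (Submonoid.powers a) M) = r) :
    Module.FinitePresentation R M ∧ Module.Flat R M ∧
      ∀ p : PrimeSpectrum R, Module.rankAtStalk M p = r := by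
  choose a ha hfree hrk using fun p : PrimeSpectrum R => h p.asIdeal
  have hs : Ideal.span (Set.range a) = ⊤ := by
    rw [← PrimeSpectrum.iSup_basicOpen_eq_top_iff, eq_top_iff]
    exact fun p _ => Opens.mem_iSup.2 ⟨p, ha p⟩
  haveI hfp : Module.FinitePresentation R M := by
    refine Module.FinitePresentation.of_localizationSpan _ hs ?_
    rintro ⟨_, p, rfl⟩
    haveI := hfree p
    haveI : Module.Finite (Localization.Away (a p)) (LocalizedModule (Submonoid.powers (a p)) M) :=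
      Module.Finite.of_isLocalizedModule (Submonoid.powers (a p))
        (LocalizedModule.mkLinearMap (Submonoid.powers (a p)) M)
    exact Module.finitePresentation_of_projective _ _
  haveI hflat : Module.Flat R M := Module.flat_of_localized_span (S := R) (M := M) _ hs (by
    rintro ⟨_, p, rfl⟩
    haveI := hfree p
    haveI : Module.Flat R (Localization.Away (a p)) := IsLocalization.flat _ (Submonoid.powers (a p))
    exact Module.Flat.trans R (Localization.Away (a p)) _)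
  refine ⟨hfp, hflat, fun p => ?_⟩
  haveI : Module.Projective R M := Module.Flat.projective_of_finitePresentation
  haveI := hfree p
  let q : PrimeSpectrum (Localization.Away (a p)) :=
    ⟨p.asIdeal.map (algebraMap R (Localization.Away (a p))),
      IsLocalization.isPrime_of_isPrime_disjoint (Submonoid.powers (a p)) _ p.asIdeal p.2
        (by rw [Ideal.disjoint_powers_iff_notMem _ p.2.isRadical]; exact ha p)⟩
  have hq : PrimeSpectrum.comap (algebraMap R (Localization.Away (a p))) q = p :=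
    PrimeSpectrum.ext (IsLocalization.comap_map_of_isPrime_disjoint (Submonoid.powers (a p)) _ p.2
      (by rw [Ideal.disjoint_powers_iff_notMem _ p.2.isRadical]; exact ha p))
  haveI : Nontrivial (Localization.Away (a p)) := q.nontrivial
  have key : Module.rankAtStalk (TensorProduct R (Localization.Away (a p)) M) q = Module.rankAtStalk M p := by
    rw [Module.rankAtStalk_baseChange, hq]
  rw [← key, Module.rankAtStalk_eq_of_equiv
    ((LocalizedModule.equivTensorProduct (Submonoid.powers (a p)) M).symm)]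
  exact (congrFun Module.rankAtStalk_eq_finrank_of_free q).trans (hrk p)

theorem affine_case [IsAffine Y] (f : X ⟶ Y) [IsFinite f] (d : ℕ)
    (h0 : ∀ k, k < d → finSheaf f k = ⊥) (h1 : ∀ k, d ≤ k → finSheaf f k = ⊤) :
    Flat f ∧ LocallyOfFinitePresentation f ∧
      ∀ p : PrimeSpectrum Γ(Y, ⊤), f.appTop.hom.finrank p = d := by
  haveI : IsAffine X := isAffine_of_isAffineHom f
  have hU : IsAffineOpen (⊤ : Y.Opens) := isAffineOpen_top Y
  letI := f.appTop.hom.toAlgebra
  haveI : Module.Finite Γ(Y, ⊤) Γ(X, ⊤) := f.finite_appTop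
  obtain ⟨hfp, hflat, hrk⟩ := projective_of_free_away ((locallyFree_iff (M := Γ(X, ⊤)) d).2
    ⟨fun k hk => by
      show finIdeal f k ⊤ = ⊥
      rw [← finSheaf_ideal f k ⟨⊤, hU⟩, h0 k hk, Scheme.IdealSheafData.ideal_bot]; rfl,
     fun k hk => by
      show finIdeal f k ⊤ = ⊤
      rw [← finSheaf_ideal f k ⟨⊤, hU⟩, h1 k hk, Scheme.IdealSheafData.ideal_top]; rfl⟩)
  refine ⟨HasRingHomProperty.iff_of_isAffine.2 hflat,
    HasRingHomProperty.iff_of_isAffine.2 (Algebra.FinitePresentation.of_finitePresentation Γ(Y, ⊤) Γ(X, ⊤)), hrk⟩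

/-- A finite morphism with the Fitting ideals of a locally free module of rank `d`. -/
theorem isFinLocFreeOfDeg_of_finSheaf (f : X ⟶ Y) [IsFinite f] (d : ℕ)
    (h0 : ∀ k, k < d → finSheaf f k = ⊥) (h1 : ∀ k, d ≤ k → finSheaf f k = ⊤) :
    Mor2.IsFinLocFreeOfDeg d f := by
  have key : ∀ {Z : Scheme.{u}} (g : Z ⟶ Y) [IsAffine Z], IsFinite (pullback.snd f g) ∧
      Flat (pullback.snd f g) ∧ LocallyOfFinitePresentation (pullback.snd f g) ∧
        ∀ p : PrimeSpectrum Γ(Z, ⊤), (pullback.snd f g).appTop.hom.finrank p = d := by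
    intro Z g _
    haveI : IsFinite (pullback.snd f g) := MorphismProperty.pullback_snd _ _ inferInstance
    refine ⟨inferInstance, affine_case _ d (fun k hk => ?_) fun k hk => ?_⟩
    · rw [← finSheaf_comap (IsPullback.of_hasPullback f g), h0 k hk, Scheme.IdealSheafData.comap_bot]
    · rw [← finSheaf_comap (IsPullback.of_hasPullback f g), h1 k hk, Scheme.IdealSheafData.comap_top]
  have hflat : Flat f := IsZariskiLocalAtTarget.of_openCover (P := @Flat) Y.affineCover fun i =>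
    (key (Y.affineCover.f i)).2.1
  refine ⟨⟨inferInstance, hflat, IsZariskiLocalAtTarget.of_openCover (P := @LocallyOfFinitePresentation)
    Y.affineCover fun i => (key (Y.affineCover.f i)).2.2.1⟩, fun y => ?_⟩
  obtain ⟨R, g, hg, z, rfl⟩ := Y.exists_Spec_apply_eq y
  rw [← Scheme.Hom.finrank_pullback_snd f g z]
  obtain ⟨hfin', hfl', -, hrk⟩ := key g
  haveI := hfin'
  haveI := hfl'
  haveI : IsAffine (pullback f g) := isAffine_of_isAffineHom (pullback.snd f g)
  generalize hq : pullback.snd f g = q at hrk hfin' hfl'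
  let φ : R ⟶ Γ(pullback f g, ⊤) := (Scheme.ΓSpecIso R).inv ≫ q.appTop
  have hqφ : q = (pullback f g).isoSpec.hom ≫ Spec.map φ := by
    rw [Spec.map_comp, ← Category.assoc, Scheme.isoSpec_hom_naturality]
    simp [Scheme.isoSpec_Spec_hom, ← Spec.map_comp]
  have hb := ConcreteCategory.bijective_of_isIso (Scheme.ΓSpecIso R).inv
  haveI : IsFinite q := hfin'
  haveI : Flat q := hfl'
  have hfin : φ.hom.Finite := q.finite_appTop.comp (.of_surjective _ hb.surjective)
  have hflatφ : φ.hom.Flat := RingHom.Flat.comp (.of_bijective hb) q.flat_appTop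
  haveI : IsFinite (Spec.map φ) := (IsFinite.SpecMap_iff φ).2 hfin
  haveI : Flat (Spec.map φ) := Flat.SpecMap_iff.2 hflatφ
  rw [hqφ, Scheme.Hom.finrank_comp_left_of_isIso, Scheme.Hom.finrank_SpecMap_eq_finrank hfin hflatφ]
  obtain ⟨p, hp⟩ := ((Spec.map (Scheme.ΓSpecIso R).inv).surjective) z
  rw [show φ.hom = q.appTop.hom.comp (Scheme.ΓSpecIso R).inv.hom from rfl,
    RingHom.finrank_comp_right_of_bijective _ _ hb q.finite_appTop q.flat_appTop z p hp.symm]
  exact hrk p

end Groth.Agent.FittX
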