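import Groth.Agent.FittX.PdOne
import Groth.Agent.BlowAlgX.Map
import Groth.Prelude.Def_FlatCA

/-!
# Fitting ideals of strict transforms in affine blow-up algebras
-/

set_option autoImplicit false
set_option backward.isDefEq.respectTransparency.types false

universe u

open Module
open scoped nonZeroDivisors

namespace Groth.Agent.FittX.StrictTransform

section

variable {R : Type u} [CommRing R] {I : Ideal R} {a : R} {R₁ : Type u} [CommRing R₁] [Algebra R R₁]
  (e : R₁ ≃ₐ[R] ↥(BlowUp.affineAlgebra R I a))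

include e in
theorem mem_nonZeroDivisors : algebraMap R R₁ a ∈ R₁⁰ := by
  rw [mem_nonZeroDivisors_iff_right]
  intro x hx
  refine e.injective (Subtype.ext ?_)
  have h := congrArg (fun y => ((e y : BlowUp.affineAlgebra R I a) : Localization.Away a)) hx
  simp only [map_mul, map_zero, Subalgebra.coe_mul, ZeroMemClass.coe_zero, AlgEquiv.commutes,
    Subalgebra.coe_algebraMap] at h
  rw [map_zero, ZeroMemClass.coe_zero]
  exact (IsLocalization.Away.algebraMap_isUnit a).mul_left_eq_zero.1 h

include e in
theorem map_eq_span (ha : a ∈ I) : I.map (algebraMap R R₁) = Ideal.span {algebraMap R R₁ a} := by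
  refine le_antisymm (Ideal.map_le_iff_le_comap.2 fun x hx => ?_)
    (Ideal.span_le.2 (Set.singleton_subset_iff.2 (Ideal.mem_map_of_mem _ ha)))
  refine Ideal.mem_span_singleton'.2 ⟨e.symm ⟨IsLocalization.mk' (Localization.Away a) x ⟨a, Submonoid.mem_powers a⟩,
    Algebra.subset_adjoin ⟨x, hx, rfl⟩⟩, e.injective (Subtype.ext ?_)⟩
  rw [map_mul, AlgEquiv.apply_symm_apply, AlgEquiv.commutes, AlgEquiv.commutes, Subalgebra.coe_mul,
    Subalgebra.coe_algebraMap, Subalgebra.coe_algebraMap]
  exact IsLocalization.mk'_spec _ _ _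

end

variable {S : Type u} [CommRing S] {N : Type u} [AddCommGroup N] [Module S N] [Module.Finite S N]

theorem ker_smul_le_powTorsion (f : S) :
    LinearMap.ker (f • (LinearMap.id : N →ₗ[S] N)) ≤ FlatCA.powTorsion S f N := fun y hy =>
  Submodule.mem_iSup_of_mem 1 ((Submodule.mem_torsionBy_iff _ _).2 (by
    rw [pow_one]; exact LinearMap.mem_ker.1 hy))

/-- The quotient by the torsion of a principal Fitting generator has trivial Fitting ideal. -/
theorem ideal_quotient_eq_top (k : ℕ) (f : S) (hf : Fitt.ideal S N k = Ideal.span {f}) :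
    Fitt.ideal S (N ⧸ FlatCA.powTorsion S f N) k = ⊤ := by
  classical
  by_contra hne
  obtain ⟨p, hp, hle⟩ := Ideal.exists_le_maximal _ hne
  let P := p.primeCompl
  let T := FlatCA.powTorsion S f N
  let Np := LocalizedModule P N
  let Sp := Localization.AtPrime p
  haveI : Module.Finite Sp Np := Module.Finite.of_isLocalizedModule P (LocalizedModule.mkLinearMap P N)
  have hfp : Fitt.ideal Sp Np k = Ideal.span {algebraMap S Sp f} := by
    rw [ideal_baseChange (IsLocalizedModule.isBaseChange P Sp (LocalizedModule.mkLinearMap P N)), hf,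
      Ideal.map_span, Set.image_singleton]
  obtain ⟨g, hg⟩ := exists_gen_quotient k (algebraMap S Sp f) hfp
  let φ : Np →ₗ[Sp] LocalizedModule P (N ⧸ T) := LocalizedModule.map P T.mkQ
  have hφ : Function.Surjective φ := LocalizedModule.map_surjective P T.mkQ T.mkQ_surjective
  have hker : LinearMap.ker (algebraMap S Sp f • (LinearMap.id : Np →ₗ[Sp] Np)) ≤ LinearMap.ker φ := by
    intro y hy
    induction y using LocalizedModule.induction_on with
    | h m s =>
      rw [LinearMap.mem_ker, LinearMap.smul_apply, LinearMap.id_apply, algebraMap_smul, LocalizedModule.smul'_mk] at hy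
      obtain ⟨t, ht⟩ := LocalizedModule.mk_eq.1 (hy.trans (LocalizedModule.zero_mk s).symm)
      rw [smul_zero, smul_zero] at ht
      have ht' : f • ((t * s : P) : S) • m = 0 := by
        rw [smul_comm, Submonoid.coe_mul, mul_smul]
        exact ht
      rw [LinearMap.mem_ker, LocalizedModule.map_mk, ← LocalizedModule.zero_mk s, LocalizedModule.mk_eq]
      refine ⟨t, ?_⟩
      rw [smul_zero, smul_zero, ← mul_smul, Submonoid.smul_def, ← map_smul, Submodule.mkQ_apply,
        Submodule.Quotient.mk_eq_zero]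
      exact ker_smul_le_powTorsion f (LinearMap.mem_ker.2 ht')
  have hgen : Submodule.span Sp (Set.range ((Submodule.liftQ _ φ hker) ∘ g)) = ⊤ := by
    rw [Set.range_comp, Submodule.span_image, hg, Submodule.map_top, Submodule.range_liftQ,
      LinearMap.range_eq_top.2 hφ]
  haveI : Module.Finite Sp (LocalizedModule P (N ⧸ T)) :=
    Module.Finite.of_isLocalizedModule P (LocalizedModule.mkLinearMap P (N ⧸ T))
  have htop : Fitt.ideal Sp (LocalizedModule P (N ⧸ T)) k = ⊤ := ideal_eq_top_of_gen _ hgen le_rfl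
  rw [ideal_baseChange (IsLocalizedModule.isBaseChange P Sp (LocalizedModule.mkLinearMap P (N ⧸ T)))] at htop
  refine (IsLocalization.map_algebraMap_ne_top_iff_disjoint P Sp _).2 ?_ htop
  exact Set.disjoint_left.2 fun x hx hx' => hx (hle hx')

theorem isRegular_of_basis {c f : S} (hf : f ∈ S⁰) {ι : Type*} {Q : Type u} [AddCommGroup Q] [Module S Q]
    (b : Basis ι (Localization.Away c) (LocalizedModule (Submonoid.powers c) Q)) (n : ℕ) {y : Q}
    (hy : f ^ n • y = 0) : ∃ j : ℕ, c ^ j • y = 0 := by
  let L := LocalizedModule.mkLinearMap (Submonoid.powers c) Q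
  have h0 : algebraMap S (Localization.Away c) (f ^ n) • L y = 0 := by
    rw [algebraMap_smul, ← map_smul, hy, map_zero]
  have hreg : ∀ x : Localization.Away c, algebraMap S (Localization.Away c) (f ^ n) * x = 0 → x = 0 := by
    intro x hx
    obtain ⟨r, s, rfl⟩ := IsLocalization.exists_mk'_eq (Submonoid.powers c) x
    rw [← IsLocalization.mk'_one (M := Submonoid.powers c) (Localization.Away c), ← IsLocalization.mk'_mul,
      IsLocalization.mk'_eq_zero_iff] at hx
    obtain ⟨t, ht⟩ := hx
    exact (IsLocalization.mk'_eq_zero_iff r s).2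
      ⟨t, (mem_nonZeroDivisors_iff.1 (pow_mem hf n)).1 _ (by rw [← ht]; ring)⟩
  have hL : L y = 0 := b.repr.injective (Finsupp.ext fun i => by
    have := congrArg (fun z => b.repr z i) h0
    simp only [map_smul, map_zero, Finsupp.smul_apply, Finsupp.zero_apply, smul_eq_mul] at this
    simpa using hreg _ this)
  obtain ⟨⟨_, j, rfl⟩, hj⟩ := (IsLocalizedModule.eq_zero_iff (Submonoid.powers c) L).1 hL
  exact ⟨j, hj⟩

/-- When the preceding Fitting ideal vanishes, the power torsion is the torsion. -/
theorem powTorsion_eq (k : ℕ) (f : S) (hf0 : f ∈ S⁰) (hf : Fitt.ideal S N k = Ideal.span {f})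
    (hk : k = 0 ∨ Fitt.ideal S N (k - 1) = ⊥) :
    FlatCA.powTorsion S f N = LinearMap.ker (f • (LinearMap.id : N →ₗ[S] N)) := by
  refine le_antisymm (iSup_le fun n y hy => ?_) (ker_smul_le_powTorsion f)
  let T := LinearMap.ker (f • (LinearMap.id : N →ₗ[S] N))
  have hy' : f ^ n • T.mkQ y = 0 := by
    rw [← map_smul, (Submodule.mem_torsionBy_iff _ _).1 hy, map_zero]
  suffices h : (1 : S) • T.mkQ y = 0 by
    rwa [one_smul, Submodule.mkQ_apply, Submodule.Quotient.mk_eq_zero] at h
  by_contra hne
  have hann : Submodule.annihilator (Submodule.span S {T.mkQ y}) ≠ ⊤ := fun htop =>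
    hne ((Submodule.mem_annihilator_span_singleton _ _).1 (htop.ge trivial))
  obtain ⟨p, hp, hle⟩ := Ideal.exists_le_maximal _ hann
  obtain ⟨c, hc, ⟨b⟩⟩ := exists_basis_quotient hf0 hf hk p
  obtain ⟨j, hj⟩ := isRegular_of_basis hf0 b n hy'
  exact hc (hp.isPrime.mem_of_pow_mem j (hle ((Submodule.mem_annihilator_span_singleton _ _).2 hj)))

/-- Local freeness of the quotient. -/
theorem exists_free_away (k : ℕ) (f : S) (hf0 : f ∈ S⁰) (hf : Fitt.ideal S N k = Ideal.span {f})
    (hk : k = 0 ∨ Fitt.ideal S N (k - 1) = ⊥) (p : Ideal S) [p.IsPrime] :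
    ∃ g : S, g ∉ p ∧
      Module.Free (Localization.Away g) (LocalizedModule (Submonoid.powers g) (N ⧸ FlatCA.powTorsion S f N)) ∧
      Module.finrank (Localization.Away g) (LocalizedModule (Submonoid.powers g) (N ⧸ FlatCA.powTorsion S f N)) = k := by
  obtain ⟨c, hc, ⟨b⟩⟩ := exists_basis_quotient hf0 hf hk p
  haveI : Nontrivial (Localization.Away c) := by
    refine not_subsingleton_iff_nontrivial.1 fun h => ?_
    exact (IsLocalization.isPrime_of_isPrime_disjoint (Submonoid.powers c) (Localization.Away c) p ‹_›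
      (by rwa [Ideal.disjoint_powers_iff_notMem _ (Ideal.IsPrime.isRadical ‹_›)])).ne_top (Subsingleton.elim _ _)
  rw [powTorsion_eq k f hf0 hf hk]
  exact ⟨c, hc, Module.Free.of_basis b, by rw [Module.finrank_eq_card_basis b, Fintype.card_fin]⟩

/-- A free module of rank `k` has vanishing `(k-1)`-st Fitting ideal. -/
theorem ideal_pred_eq_bot [Module.Free S N] [Nontrivial S] (k : ℕ) (hk : 0 < k) (h : Module.finrank S N = k) :
    Fitt.ideal S N (k - 1) = ⊥ := by
  let b := Module.finBasisOfFinrankEq S N h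
  rw [ideal_eq_minors b b.span_eq, minors_rel_eq_span, Ideal.span_eq_bot]
  rintro d ⟨z, e, hz, rfl⟩
  refine Matrix.det_eq_zero_of_row_eq_zero ⟨0, by omega⟩ fun a => ?_
  exact Fintype.linearIndependent_iff.1 b.linearIndependent _ (mem_rel.1 (hz _)) (e a)

end Groth.Agent.FittX.StrictTransform
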