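import Groth.Agent.FittX.StrictTransform

/-!
# An ideal whose blow-up makes the strict transform locally free
-/

set_option autoImplicit false
set_option backward.isDefEq.respectTransparency.types false

universe u

open Module TensorProduct
open scoped nonZeroDivisors

namespace Groth.Agent.FittX.StrictTransform

variable {R : Type u} [CommRing R] {M : Type u} [AddCommGroup M] [Module R M]

/-- A power of `f` lies in `I` as soon as every prime without `f` has an element outside it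
some power of which lies in `I`. -/
theorem exists_pow_mem (I : Ideal R) (f : R)
    (h : ∀ (p : Ideal R) [p.IsPrime], f ∉ p → ∃ g : R, g ∉ p ∧ ∃ l : ℕ, g ^ l ∈ I) : ∃ N : ℕ, f ^ N ∈ I := by
  have hrad : f ∈ I.radical := by
    rw [Ideal.radical_eq_sInf, Submodule.mem_sInf]
    rintro (p : Ideal R) ⟨hle, hp⟩
    haveI := hp
    by_contra hf
    obtain ⟨g, hg, l, hl⟩ := h p hf
    exact hg (hp.mem_of_pow_mem l (hle hl))
  exact hrad

theorem exists_pow_smul_eq_zero (f : R) (y : M)
    (h : ∀ (p : Ideal R) [p.IsPrime], f ∉ p → ∃ g : R, g ∉ p ∧ ∃ l : ℕ, g ^ l • y = 0) :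
    ∃ N : ℕ, f ^ N • y = 0 := by
  obtain ⟨N, hN⟩ := exists_pow_mem (Submodule.annihilator (Submodule.span R {y})) f fun p _ hp => by
    obtain ⟨g, hg, l, hl⟩ := h p hp
    exact ⟨g, hg, l, (Submodule.mem_annihilator_span_singleton _ _).2 hl⟩
  exact ⟨N, (Submodule.mem_annihilator_span_singleton _ _).1 hN⟩

theorem mem_powTorsion {x : R} {y : M} : y ∈ FlatCA.powTorsion R x M ↔ ∃ n : ℕ, x ^ n • y = 0 := by
  refine (Submodule.mem_iSup_of_directed _ ?_).trans (exists_congr fun n => Submodule.mem_torsionBy_iff _ _)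
  intro i j
  refine ⟨i + j, fun z hz => ?_, fun z hz => ?_⟩ <;>
    rw [Submodule.mem_torsionBy_iff] at hz ⊢
  · rw [pow_add, mul_comm, mul_smul, hz, smul_zero]
  · rw [pow_add, mul_smul, hz, smul_zero]

/-- Near primes of freeness the kernel of a presentation is finitely generated. -/
theorem exists_fg_of_free {n : ℕ} (x : Fin n → M) (hx : Submodule.span R (Set.range x) = ⊤) (g : R)
    [Module.Free (Localization.Away g) (LocalizedModule (Submonoid.powers g) M)] :
    ∃ K₀ : Submodule R (Fin n → R), K₀.FG ∧ K₀ ≤ rel (R := R) x ∧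
      ∀ k ∈ rel (R := R) x, ∃ l : ℕ, g ^ l • k ∈ K₀ := by
  classical
  let P := Submonoid.powers g
  let π : (Fin n → R) →ₗ[R] M := Fintype.linearCombination R x
  have hπ : Function.Surjective π := LinearMap.range_eq_top.1 (by rw [Fintype.range_linearCombination, hx])
  haveI : Module.Finite R M := Module.Finite.of_surjective π hπ
  haveI : Module.Finite (Localization.Away g) (LocalizedModule P M) :=
    Module.Finite.of_isLocalizedModule P (LocalizedModule.mkLinearMap P M)
  haveI : Module.Finite (Localization.Away g) (LocalizedModule P (Fin n → R)) :=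
    Module.Finite.of_isLocalizedModule P (LocalizedModule.mkLinearMap P (Fin n → R))
  haveI : Module.FinitePresentation (Localization.Away g) (LocalizedModule P M) :=
    Module.finitePresentation_of_projective _ _
  let φ : LocalizedModule P (Fin n → R) →ₗ[Localization.Away g] LocalizedModule P M := LocalizedModule.map P π
  obtain ⟨s, hs⟩ := Module.FinitePresentation.fg_ker φ (LocalizedModule.map_surjective P π hπ)
  have hlift : ∀ w ∈ s, ∃ k ∈ rel (R := R) x, ∃ d : P, w = LocalizedModule.mk k d := by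
    intro w hw
    have hw0 : φ w = 0 := LinearMap.mem_ker.1 (hs ▸ Submodule.subset_span hw)
    induction w using LocalizedModule.induction_on with
    | h v d =>
      rw [LocalizedModule.map_mk, ← LocalizedModule.zero_mk d, LocalizedModule.mk_eq] at hw0
      obtain ⟨t, ht⟩ := hw0
      rw [smul_zero, smul_zero, ← mul_smul, Submonoid.smul_def, ← map_smul] at ht
      refine ⟨((t * d : P) : R) • v, mem_rel.2 ?_, t * d * d, ?_⟩
      · simpa [π, Fintype.linearCombination_apply, mul_smul, Finset.smul_sum] using ht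
      · rw [LocalizedModule.mk_eq]
        exact ⟨1, by simp only [one_smul, Submonoid.smul_def, smul_smul, Submonoid.coe_mul]; ring_nf⟩
  choose k hk d hkd using hlift
  refine ⟨Submodule.span R (s.attach.image fun w : {w // w ∈ s} => k w.1 w.2 : Set (Fin n → R)),
    Submodule.fg_span (Finset.finite_toSet _), Submodule.span_le.2 (fun z hz => ?_), fun z hz => ?_⟩
  · obtain ⟨w, -, rfl⟩ := Finset.mem_image.1 hz
    exact hk w.1 w.2
  set K₀ := Submodule.span R (s.attach.image fun w : {w // w ∈ s} => k w.1 w.2 : Set (Fin n → R))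
  have hle : LinearMap.ker φ ≤ K₀.localized' (Localization.Away g) P (LocalizedModule.mkLinearMap P _) := by
    rw [← hs, Submodule.span_le]
    intro w hw
    refine (Submodule.mem_localized' _ _ _ _ _).2 ⟨k w hw, Submodule.subset_span
      (Finset.mem_image.2 ⟨⟨w, hw⟩, Finset.mem_attach _ _, rfl⟩), d w hw, ?_⟩
    rw [← IsLocalizedModule.mk_eq_mk', ← hkd w hw]
  have hz0 : φ (LocalizedModule.mk z 1) = 0 := by
    rw [LocalizedModule.map_mk, show π z = 0 by simpa [π, Fintype.linearCombination_apply] using mem_rel.1 hz,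
      LocalizedModule.zero_mk]
  obtain ⟨m, hm, t, ht⟩ := (Submodule.mem_localized' _ _ _ _ _).1 (hle hz0)
  rw [← IsLocalizedModule.mk_eq_mk', LocalizedModule.mk_eq] at ht
  obtain ⟨u, hu⟩ := ht
  rw [one_smul, ← mul_smul] at hu
  obtain ⟨l, hl⟩ := (u * t).2
  exact ⟨l, by rw [show g ^ l = ((u * t : P) : R) from hl, ← Submonoid.smul_def, ← hu]; exact K₀.smul_mem _ hm⟩

/-- Finitely many relations generate all relations away from `V(f)`. -/
theorem exists_fg_rel {n : ℕ} (x : Fin n → M) (hx : Submodule.span R (Set.range x) = ⊤) (f : R)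
    (hf : ∀ (p : Ideal R) [p.IsPrime], f ∉ p → ∃ g : R, g ∉ p ∧
      Module.Free (Localization.Away g) (LocalizedModule (Submonoid.powers g) M)) :
    ∃ K₀ : Submodule R (Fin n → R), K₀.FG ∧ K₀ ≤ rel (R := R) x ∧
      ∀ k ∈ rel (R := R) x, ∃ l : ℕ, f ^ l • k ∈ K₀ := by
  classical
  let good : Set R := {g | Module.Free (Localization.Away g) (LocalizedModule (Submonoid.powers g) M)}
  obtain ⟨N, hN⟩ := exists_pow_mem (Ideal.span good) f fun p _ hp => by
    obtain ⟨g, hg, hfree⟩ := hf p hp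
    exact ⟨g, hg, 1, by rw [pow_one]; exact Ideal.subset_span hfree⟩
  obtain ⟨s, hs, hsN⟩ := Submodule.mem_span_finite_of_mem_span hN
  have hex : ∀ g : s, ∃ K₀ : Submodule R (Fin n → R), K₀.FG ∧ K₀ ≤ rel (R := R) x ∧
      ∀ k ∈ rel (R := R) x, ∃ l : ℕ, (g : R) ^ l • k ∈ K₀ := fun g => by
    haveI : Module.Free (Localization.Away (g : R)) (LocalizedModule (Submonoid.powers (g : R)) M) := hs g.2
    exact exists_fg_of_free x hx _
  choose K hKfg hKle hK using hex
  refine ⟨⨆ g, K g, Submodule.fg_iSup K hKfg, iSup_le hKle, fun k hk => ?_⟩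
  let C : Ideal R := (⨆ g, K g).comap (LinearMap.toSpanSingleton R (Fin n → R) k)
  obtain ⟨l, hl⟩ : ∃ l : ℕ, f ^ l ∈ C := exists_pow_mem C f fun p hp hfp => by
    obtain ⟨g, hgs, hg⟩ : ∃ g ∈ s, g ∉ p := by
      by_contra! hall
      exact hfp (hp.mem_of_pow_mem N (Submodule.span_le.2 hall hsN))
    obtain ⟨l, hl⟩ := hK ⟨g, hgs⟩ k hk
    exact ⟨g, hg, l, Submodule.mem_iSup_of_mem ⟨g, hgs⟩ hl⟩
  exact ⟨l, hl⟩

/-- The Fitting ideals of the two presentations agree away from `V(f)`. -/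
theorem exists_pow_mul_mem {n : ℕ} {M' : Type u} [AddCommGroup M'] [Module R M'] (x : Fin n → M)
    (hx : Submodule.span R (Set.range x) = ⊤) (x' : Fin n → M') (hx' : Submodule.span R (Set.range x') = ⊤) (f : R)
    (h : ∀ k ∈ rel (R := R) x, ∃ l : ℕ, f ^ l • k ∈ rel (R := R) x') (r : ℕ) {d : R}
    (hd : d ∈ Fitt.ideal R M r) : ∃ l : ℕ, f ^ l * d ∈ Fitt.ideal R M' r := by
  rw [ideal_eq_minors x hx, minors_rel_eq_span] at hd
  rw [ideal_eq_minors x' hx', minors_rel_eq_span]
  induction hd using Submodule.span_induction with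
  | zero => exact ⟨0, by simp⟩
  | add a b _ _ ha hb =>
    obtain ⟨la, ha⟩ := ha
    obtain ⟨lb, hb⟩ := hb
    refine ⟨la + lb, ?_⟩
    rw [show f ^ (la + lb) * (a + b) = f ^ lb * (f ^ la * a) + f ^ la * (f ^ lb * b) by ring]
    exact add_mem (Ideal.mul_mem_left _ _ ha) (Ideal.mul_mem_left _ _ hb)
  | smul c a _ ha =>
    obtain ⟨la, ha⟩ := ha
    exact ⟨la, by rw [smul_eq_mul, mul_left_comm]; exact Ideal.mul_mem_left _ _ ha⟩
  | mem d hd =>
    obtain ⟨z, e, hz, rfl⟩ := hd
    choose l hl using fun b => h (z b) (hz b)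
    let L := ∑ b, l b
    have hL : ∀ b, f ^ L • z b ∈ rel (R := R) x' := fun b => by
      obtain ⟨c, hc⟩ := Nat.exists_eq_add_of_le (Finset.single_le_sum (f := l) (fun i _ => Nat.zero_le _) (Finset.mem_univ b))
      rw [show L = ∑ b, l b from rfl, hc, pow_add, mul_comm, mul_smul]
      exact Submodule.smul_mem _ _ (hl b)
    refine ⟨L * (n - r), Ideal.subset_span ⟨fun b => f ^ L • z b, e, hL, ?_⟩⟩
    simp only [cminor]
    rw [pow_mul, show (Matrix.of fun b a => (f ^ L • z b) (e a)) = f ^ L • Matrix.of fun b a => z b (e a) from rfl,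
      Matrix.det_smul, Fintype.card_fin]

/-- No torsion in a locally free module for a nonzerodivisor. -/
theorem eq_zero_of_locally_free {Q : Type u} [AddCommGroup Q] [Module R Q] {r : ℕ}
    (hQ : ∀ (p : Ideal R) [p.IsPrime], ∃ c : R, c ∉ p ∧
      Nonempty (Basis (Fin r) (Localization.Away c) (LocalizedModule (Submonoid.powers c) Q)))
    {a : R} (ha : a ∈ R⁰) (l : ℕ) {y : Q} (hy : a ^ l • y = 0) : y = 0 := by
  obtain ⟨N, hN⟩ := exists_pow_smul_eq_zero (1 : R) y fun p _ _ => by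
    obtain ⟨c, hc, ⟨b⟩⟩ := hQ p
    exact ⟨c, hc, isRegular_of_basis ha b l hy⟩
  rwa [one_pow, one_smul] at hN

section

variable [Module.Finite R M] (f : R) (r : ℕ)
  (hf : ∀ (p : Ideal R) [p.IsPrime], f ∉ p → ∃ g : R, g ∉ p ∧
    Module.Free (Localization.Away g) (LocalizedModule (Submonoid.powers g) M) ∧
      Module.finrank (Localization.Away g) (LocalizedModule (Submonoid.powers g) M) = r)

include hf in
theorem exists_pow_mem_ideal : ∃ N : ℕ, f ^ N ∈ Fitt.ideal R M r := by
  refine exists_pow_mem _ f fun p _ hp => ?_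
  obtain ⟨g, hg, hfree, hrk⟩ := hf p hp
  haveI := hfree
  haveI : Module.Finite (Localization.Away g) (LocalizedModule (Submonoid.powers g) M) :=
    Module.Finite.of_isLocalizedModule (Submonoid.powers g) (LocalizedModule.mkLinearMap (Submonoid.powers g) M)
  haveI : Nontrivial (Localization.Away g) := by
    refine not_subsingleton_iff_nontrivial.1 fun h => ?_
    exact (IsLocalization.isPrime_of_isPrime_disjoint (Submonoid.powers g) (Localization.Away g) p ‹_›
      (by rwa [Ideal.disjoint_powers_iff_notMem _ (Ideal.IsPrime.isRadical ‹_›)])).ne_top (Subsingleton.elim _ _)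
  let b := Module.finBasisOfFinrankEq (Localization.Away g) _ hrk
  have h1 : algebraMap R (Localization.Away g) 1 ∈ (Fitt.ideal R M r).map (algebraMap R (Localization.Away g)) := by
    rw [← ideal_map_away, ideal_eq_top_of_gen b b.span_eq le_rfl]
    trivial
  obtain ⟨⟨⟨z, hz⟩, ⟨_, l, rfl⟩⟩, hzl⟩ := (IsLocalization.mem_map_algebraMap_iff (Submonoid.powers g) _).1 h1
  rw [← map_mul, one_mul, IsLocalization.eq_iff_exists (Submonoid.powers g)] at hzl
  obtain ⟨⟨_, i, rfl⟩, hi⟩ := hzl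
  exact ⟨g, hg, i + l, by rw [pow_add, hi]; exact Ideal.mul_mem_left _ _ hz⟩

include hf in
theorem exists_pow_mul_eq_zero (hr : r ≠ 0) {d : R} (hd : d ∈ Fitt.ideal R M (r - 1)) :
    ∃ N : ℕ, f ^ N * d = 0 := by
  refine exists_pow_smul_eq_zero f d fun p _ hp => ?_
  obtain ⟨g, hg, hfree, hrk⟩ := hf p hp
  haveI := hfree
  haveI : Module.Finite (Localization.Away g) (LocalizedModule (Submonoid.powers g) M) :=
    Module.Finite.of_isLocalizedModule (Submonoid.powers g) (LocalizedModule.mkLinearMap (Submonoid.powers g) M)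
  haveI : Nontrivial (Localization.Away g) := by
    refine not_subsingleton_iff_nontrivial.1 fun h => ?_
    exact (IsLocalization.isPrime_of_isPrime_disjoint (Submonoid.powers g) (Localization.Away g) p ‹_›
      (by rwa [Ideal.disjoint_powers_iff_notMem _ (Ideal.IsPrime.isRadical ‹_›)])).ne_top (Subsingleton.elim _ _)
  have h0 := ideal_pred_eq_bot r (Nat.pos_of_ne_zero hr) hrk
  rw [ideal_map_away, eq_bot_iff, Ideal.map_le_iff_le_comap] at h0
  obtain ⟨⟨_, l, rfl⟩, hl⟩ := (IsLocalization.map_eq_zero_iff (Submonoid.powers g) _ d).1 (h0 hd)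
  exact ⟨g, hg, l, hl⟩

end

/-- Main theorem. -/
theorem exists_ideal [Module.Finite R M] (f : R) (r : ℕ)
    (hf : ∀ (p : Ideal R) [p.IsPrime], f ∉ p → ∃ g : R, g ∉ p ∧
      Module.Free (Localization.Away g) (LocalizedModule (Submonoid.powers g) M) ∧
        Module.finrank (Localization.Away g) (LocalizedModule (Submonoid.powers g) M) = r) :
    ∃ I : Ideal R, I.FG ∧ I.radical = (Ideal.span {f}).radical ∧ ∀ a ∈ I, ∀ (R₁ : Type u) [CommRing R₁]
      [Algebra R R₁] (_ : R₁ ≃ₐ[R] ↥(BlowUp.affineAlgebra R I a)),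
      ∀ (p' : Ideal R₁) [p'.IsPrime], ∃ g : R₁, g ∉ p' ∧
        Module.Free (Localization.Away g) (LocalizedModule (Submonoid.powers g) ((R₁ ⊗[R] M) ⧸ FlatCA.powTorsion R₁ (algebraMap R R₁ a) (R₁ ⊗[R] M))) ∧
        Module.finrank (Localization.Away g) (LocalizedModule (Submonoid.powers g) ((R₁ ⊗[R] M) ⧸ FlatCA.powTorsion R₁ (algebraMap R R₁ a) (R₁ ⊗[R] M))) = r := by
  classical
  obtain ⟨n, x, hx⟩ := exists_gen R M
  obtain ⟨K₀, hKfg, hKle, hK⟩ := exists_fg_rel x hx f fun p _ hp => by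
    obtain ⟨g, hg, hfree, -⟩ := hf p hp
    exact ⟨g, hg, hfree⟩
  let M'' := (Fin n → R) ⧸ K₀
  haveI : Module.FinitePresentation R M'' :=
    Module.finitePresentation_of_surjective K₀.mkQ K₀.mkQ_surjective (by rwa [Submodule.ker_mkQ])
  let x'' : Fin n → M'' := fun i => K₀.mkQ (Pi.single i 1)
  have hsum : ∀ z : Fin n → R, ∑ i, z i • x'' i = K₀.mkQ z := fun z => by
    simp only [x'', ← map_smul, ← map_sum]
    congr 1
    ext j
    simp [Finset.sum_apply, Pi.single_apply]
  have hrel : rel (R := R) x'' = K₀ := Submodule.ext fun z => by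
    rw [mem_rel, hsum, Submodule.mkQ_apply, Submodule.Quotient.mk_eq_zero]
  have hx'' : Submodule.span R (Set.range x'') = ⊤ := top_le_iff.1 fun y _ => by
    obtain ⟨z, rfl⟩ := K₀.mkQ_surjective y
    rw [← hsum]
    exact Submodule.sum_mem _ fun i _ => Submodule.smul_mem _ _ (Submodule.subset_span ⟨i, rfl⟩)
  let π : M'' →ₗ[R] M := K₀.liftQ (Fintype.linearCombination R x) fun z hz => by
    simpa [Fintype.linearCombination_apply] using mem_rel.1 (hKle hz)
  have hπs : Function.Surjective π := LinearMap.range_eq_top.1 (by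
    rw [Submodule.range_liftQ, Fintype.range_linearCombination, hx])
  have hπk : ∀ y, π y = 0 → ∃ l : ℕ, f ^ l • y = 0 := fun y hy => by
    obtain ⟨z, rfl⟩ := K₀.mkQ_surjective y
    obtain ⟨l, hl⟩ := hK z (mem_rel.2 (by
      rw [Submodule.mkQ_apply] at hy
      erw [Submodule.liftQ_apply] at hy
      simpa [Fintype.linearCombination_apply] using hy))
    exact ⟨l, by rw [← map_smul, Submodule.mkQ_apply, Submodule.Quotient.mk_eq_zero]; exact hl⟩
  obtain ⟨N, hN⟩ := exists_pow_mem_ideal f r hf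
  obtain ⟨l₀, hl₀⟩ := exists_pow_mul_mem x hx x'' hx'' f (by rwa [hrel]) r hN
  rw [← pow_add] at hl₀
  let J := Fitt.ideal R M'' r
  refine ⟨Ideal.span {f} * J, (Submodule.fg_span (Set.finite_singleton f)).mul (ideal_fg r), ?_,
    fun a ha R₁ _ _ e p' _ => ?_⟩
  · refine le_antisymm (Ideal.radical_mono Ideal.mul_le_left) (Ideal.radical_le_radical_iff.2 ?_)
    rw [Ideal.span_le, Set.singleton_subset_iff]
    exact ⟨l₀ + N + 1, by rw [pow_succ']; exact Ideal.mul_mem_mul (Ideal.mem_span_singleton_self f) hl₀⟩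
  let F := algebraMap R R₁ f
  let A := algebraMap R R₁ a
  let J₁ := J.map (algebraMap R R₁)
  have hA : A ∈ R₁⁰ := mem_nonZeroDivisors e
  have hmap := map_eq_span e ha
  rw [Ideal.map_mul, Ideal.map_span, Set.image_singleton] at hmap
  obtain ⟨j, hj, hjA⟩ := Ideal.mem_span_singleton_mul.1
    (show A ∈ Ideal.span {F} * J₁ from hmap ▸ Ideal.mem_span_singleton_self A)
  have hF : F ∈ R₁⁰ := (mul_mem_nonZeroDivisors.1 (hjA ▸ hA)).1
  have hj0 : j ∈ R₁⁰ := (mul_mem_nonZeroDivisors.1 (hjA ▸ hA)).2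
  have hJ₁ : J₁ = Ideal.span {j} := by
    refine le_antisymm (fun y hy => ?_) (Ideal.span_le.2 (Set.singleton_subset_iff.2 hj))
    obtain ⟨c, hc⟩ := Ideal.mem_span_singleton'.1
      (show F * y ∈ Ideal.span {A} from hmap ▸ Ideal.mul_mem_mul (Ideal.mem_span_singleton_self F) hy)
    exact Ideal.mem_span_singleton'.2 ⟨c, (mul_cancel_left_mem_nonZeroDivisors hF).1 (by rw [← hc, ← hjA]; ring)⟩
  have hfit : Fitt.ideal R₁ (R₁ ⊗[R] M'') r = Ideal.span {j} :=
    (ideal_baseChange (TensorProduct.isBaseChange R M'' R₁) r).trans hJ₁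
  have hk : r = 0 ∨ Fitt.ideal R₁ (R₁ ⊗[R] M'') (r - 1) = ⊥ := by
    refine or_iff_not_imp_left.2 fun hr => ?_
    rw [ideal_baseChange (TensorProduct.isBaseChange R M'' R₁) (r - 1), eq_bot_iff, Ideal.map_le_iff_le_comap]
    intro d hd
    obtain ⟨N', hN'⟩ := exists_pow_mul_eq_zero f r hf hr (ideal_le_of_surjective π hπs _ hd)
    have hz : F ^ N' * algebraMap R R₁ d = 0 := by rw [← map_pow, ← map_mul, hN', map_zero]
    exact Ideal.mem_bot.2 ((mem_nonZeroDivisors_iff.1 (pow_mem hF N')).1 _ hz)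
  let T := LinearMap.ker (j • (LinearMap.id : R₁ ⊗[R] M'' →ₗ[R₁] R₁ ⊗[R] M''))
  have hQ : ∀ (p : Ideal R₁) [p.IsPrime], ∃ c : R₁, c ∉ p ∧ Nonempty (Basis (Fin r) (Localization.Away c)
      (LocalizedModule (Submonoid.powers c) ((R₁ ⊗[R] M'') ⧸ T))) := fun p _ =>
    exists_basis_quotient hj0 hfit hk p
  have hTA : FlatCA.powTorsion R₁ A (R₁ ⊗[R] M'') = T := by
    refine le_antisymm (fun y hy => ?_) (fun y hy => ?_)
    · obtain ⟨l, hl⟩ := mem_powTorsion.1 hy
      have := eq_zero_of_locally_free hQ hA l (y := T.mkQ y) (by rw [← map_smul, hl, map_zero])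
      rwa [Submodule.mkQ_apply, Submodule.Quotient.mk_eq_zero] at this
    · refine mem_powTorsion.2 ⟨1, ?_⟩
      rw [pow_one, ← hjA, mul_smul, show j • y = 0 from LinearMap.mem_ker.1 hy, smul_zero]
  let π₁ : R₁ ⊗[R] M'' →ₗ[R₁] R₁ ⊗[R] M := π.baseChange R₁
  have hπ₁ : Function.Surjective π₁ := LinearMap.lTensor_surjective R₁ hπs
  have hπ₁k : ∀ y, π₁ y = 0 → ∃ l : ℕ, A ^ l • y = 0 := by
    intro y hy
    obtain ⟨w, rfl⟩ := (lTensor_exact R₁ π.exact_subtype_ker_map hπs y).1 hy
    clear hy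
    induction w with
    | zero => exact ⟨0, by simp⟩
    | add u v hu hv =>
      obtain ⟨lu, hu⟩ := hu
      obtain ⟨lv, hv⟩ := hv
      refine ⟨lu + lv, ?_⟩
      rw [map_add, smul_add, pow_add, mul_smul _ _ (LinearMap.lTensor R₁ _ v), hv, smul_zero, add_zero,
        mul_comm, mul_smul, hu, smul_zero]
    | tmul c k =>
      obtain ⟨l, hl⟩ := hπk k.1 (LinearMap.mem_ker.1 k.2)
      refine ⟨l, ?_⟩
      rw [LinearMap.lTensor_tmul, Submodule.subtype_apply, TensorProduct.smul_tmul', smul_eq_mul,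
        show A ^ l * c = f ^ l • (j ^ l * c) by rw [← hjA, Algebra.smul_def, map_pow]; ring,
        TensorProduct.smul_tmul, hl, tmul_zero]
  let U := FlatCA.powTorsion R₁ A (R₁ ⊗[R] M)
  have hTU : FlatCA.powTorsion R₁ A (R₁ ⊗[R] M'') ≤ U.comap π₁ := fun y hy => by
    obtain ⟨l, hl⟩ := mem_powTorsion.1 hy
    exact mem_powTorsion.2 ⟨l, by rw [← map_smul, hl, map_zero]⟩
  let ψ : (R₁ ⊗[R] M'') ⧸ T →ₗ[R₁] (R₁ ⊗[R] M) ⧸ U := T.mapQ U π₁ (hTA ▸ hTU)
  have hψs : Function.Surjective ψ := fun y => by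
    obtain ⟨z, rfl⟩ := U.mkQ_surjective y
    obtain ⟨w, rfl⟩ := hπ₁ z
    exact ⟨T.mkQ w, rfl⟩
  have hψi : Function.Injective ψ := (injective_iff_map_eq_zero ψ).2 fun y hy => by
    obtain ⟨w, rfl⟩ := T.mkQ_surjective y
    obtain ⟨l, hl⟩ := mem_powTorsion.1 ((Submodule.Quotient.mk_eq_zero U).1 hy)
    obtain ⟨m, hm⟩ := hπ₁k (A ^ l • w) (by rw [map_smul]; exact hl)
    rw [Submodule.mkQ_apply, Submodule.Quotient.mk_eq_zero, ← hTA]
    exact mem_powTorsion.2 ⟨m + l, by rw [pow_add, mul_smul, hm]⟩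
  obtain ⟨c, hc, ⟨b⟩⟩ := hQ p'
  let E : LocalizedModule (Submonoid.powers c) ((R₁ ⊗[R] M'') ⧸ T) ≃ₗ[Localization.Away c]
      LocalizedModule (Submonoid.powers c) ((R₁ ⊗[R] M) ⧸ U) :=
    LinearEquiv.ofBijective (LocalizedModule.map (Submonoid.powers c) ψ)
      ⟨LocalizedModule.map_injective _ ψ hψi, LocalizedModule.map_surjective _ ψ hψs⟩
  haveI : Nontrivial (Localization.Away c) := by
    refine not_subsingleton_iff_nontrivial.1 fun h => ?_
    exact (IsLocalization.isPrime_of_isPrime_disjoint (Submonoid.powers c) (Localization.Away c) p' ‹_›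
      (by rwa [Ideal.disjoint_powers_iff_notMem _ (Ideal.IsPrime.isRadical ‹_›)])).ne_top (Subsingleton.elim _ _)
  exact ⟨c, hc, Module.Free.of_basis (b.map E),
    by rw [Module.finrank_eq_card_basis (b.map E), Fintype.card_fin]⟩

end Groth.Agent.FittX.StrictTransform
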